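import Mathlib
import Cfsg.Agent.PGroups.Commutators
import Cfsg.Prelude.Def_CaseTheorems

/-!
Small tools for `p`-groups of rank at most two given by three generators.
-/

set_option autoImplicit false

namespace Cfsg.Lib.PGroups.RankTwoIsolated

open Subgroup
open scoped commutatorElement Pointwise

variable {X : Type*} [Group X]

/-- three commuting independent elements of order `p` contradict rank two -/
theorem mem_zpowers_of_rank [Finite X] {p : ℕ} [Fact p.Prime] (hrk : Cfsg.PRankLE p 2 X) {u e y : X}
    (hue : Commute u e) (huy : Commute u y) (hey : Commute e y) (hu : u ^ p = 1) (he : e ^ p = 1)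
    (hy : y ^ p = 1) (hu1 : u ≠ 1) (hyn : y ∉ closure ({u, e} : Set X)) : e ∈ zpowers u := by
  classical
  by_contra hne
  set A : Subgroup X := closure {u, e, y} with hA
  have hcm : ∀ a ∈ ({u, e, y} : Set X), ∀ b ∈ ({u, e, y} : Set X), a * b = b * a := by
    intro a ha b hb
    rcases ha with rfl | rfl | rfl <;> rcases hb with rfl | rfl | rfl
    exacts [rfl, hue, huy, hue.symm, rfl, hey, huy.symm, hey.symm, rfl]
  haveI : IsMulCommutative A := Subgroup.isMulCommutative_closure hcm
  have hexp : ∀ a ∈ A, a ^ p = 1 := by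
    intro a ha
    induction ha using Subgroup.closure_induction with
    | mem a ha => rcases ha with rfl | rfl | rfl <;> assumption
    | one => exact one_pow p
    | mul a b ha hb iha ihb =>
      have hab : Commute a b :=
        congrArg Subtype.val (mul_comm' (⟨a, ha⟩ : A) ⟨b, hb⟩)
      rw [hab.mul_pow, iha, ihb, one_mul]
    | inv a _ iha => rw [inv_pow, iha, inv_one]
  have hAp : IsPGroup p A := fun a => ⟨1, Subtype.ext (by rw [pow_one]; exact hexp a a.2)⟩
  set W : Subgroup X := closure {u, e} with hW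
  have h1 : zpowers u < W := by
    refine lt_of_le_of_ne (zpowers_le.2 (subset_closure (by simp))) fun h => hne ?_
    rw [h]; exact subset_closure (by simp)
  have h2 : W < A := by
    refine lt_of_le_of_ne (closure_mono (by intro a; simp; tauto)) fun h => hyn ?_
    rw [h]; exact subset_closure (by simp)
  have key : ∀ {S T : Subgroup X}, IsPGroup p T → S < T → p * Nat.card S ≤ Nat.card T := by
    intro S T hT h
    obtain ⟨a, ha⟩ := IsPGroup.iff_card.1 (hT.to_le h.le)
    obtain ⟨b, hb⟩ := IsPGroup.iff_card.1 hT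
    have hlt : Nat.card S < Nat.card T :=
      lt_of_le_of_ne (Nat.le_of_dvd Nat.card_pos (card_dvd_of_le h.le))
        fun e => h.ne (eq_of_le_of_card_ge h.le e.ge)
    rw [ha, hb] at hlt ⊢
    rw [← pow_succ']
    exact Nat.pow_le_pow_right (Fact.out : p.Prime).pos
      ((Nat.pow_lt_pow_iff_right (Fact.out : p.Prime).one_lt).1 hlt)
  have h3 := key (hAp.to_le h2.le) h1
  rw [Nat.card_zpowers, orderOf_eq_prime hu hu1] at h3
  have h4 := hrk A inferInstance hexp
  have h5 := key hAp h2
  have hp := (Fact.out : p.Prime)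
  nlinarith [hp.two_le, Nat.mul_le_mul_left p h3, pow_two p]

/-- commutators of three generators control the derived group -/
theorem commutator_le_of_three {x y z : X} (hgen : closure ({x, y, z} : Set X) = ⊤) (N : Subgroup X)
    [N.Normal] (hxy : ⁅x, y⁆ ∈ N) (hxz : ⁅x, z⁆ ∈ N) (hyz : ⁅y, z⁆ ∈ N) : commutator X ≤ N := by
  set π := QuotientGroup.mk' N
  have hcm : ∀ a b : X, ⁅a, b⁆ ∈ N → Commute (π a) (π b) := fun a b h => by
    rw [← commutatorElement_eq_one_iff_commute, ← map_commutatorElement]
    exact (QuotientGroup.eq_one_iff _).2 h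
  have hc : IsMulCommutative (closure ({π x, π y, π z} : Set (X ⧸ N))) := by
    refine Subgroup.isMulCommutative_closure ?_
    intro a ha b hb
    rcases ha with rfl | rfl | rfl <;> rcases hb with rfl | rfl | rfl
    exacts [rfl, hcm _ _ hxy, hcm _ _ hxz, (hcm _ _ hxy).symm, rfl, hcm _ _ hyz, (hcm _ _ hxz).symm,
      (hcm _ _ hyz).symm, rfl]
  have htop : closure ({π x, π y, π z} : Set (X ⧸ N)) = ⊤ := by
    have h := congrArg (Subgroup.map π) hgen
    rw [MonoidHom.map_closure, Subgroup.map_top_of_surjective π (QuotientGroup.mk'_surjective N)] at h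
    simpa [Set.image_insert_eq, Set.image_singleton] using h
  rw [htop] at hc
  rw [_root_.commutator_def, commutator_le]
  intro a _ b _
  rw [← QuotientGroup.eq_one_iff]
  show π ⁅a, b⁆ = 1
  rw [map_commutatorElement, commutatorElement_eq_one_iff_commute]
  exact congrArg Subtype.val (hc.is_comm.comm (⟨π a, mem_top _⟩ : (⊤ : Subgroup (X ⧸ N))) ⟨π b, mem_top _⟩)

/-- an element commuting with three generators is central -/
theorem mem_center_of_three {x y z u : X} (hgen : closure ({x, y, z} : Set X) = ⊤)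
    (hx : Commute u x) (hy : Commute u y) (hz : Commute u z) : u ∈ center X := by
  have h : closure ({x, y, z} : Set X) ≤ centralizer ({u} : Set X) := by
    rw [closure_le]
    rintro a (rfl | rfl | rfl) <;> simp only [SetLike.mem_coe, mem_centralizer_singleton_iff]
    exacts [hx.eq.symm, hy.eq.symm, hz.eq.symm]
  refine mem_center_iff.2 fun g => ?_
  exact mem_centralizer_singleton_iff.1 (h (hgen ▸ mem_top g))

/-- for odd `p` and a central commutator of order `p` the `p k`-th power is multiplicative -/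
theorem mul_pow_of_dvd {p : ℕ} [Fact p.Prime] (hp : p ≠ 2) {a b : X} (hc : ⁅b, a⁆ ∈ center X)
    (hone : ⁅b, a⁆ ^ p = 1) {q : ℕ} (hq : p ∣ q) : (a * b) ^ q = a ^ q * b ^ q := by
  obtain ⟨k, rfl⟩ := hq
  have h1 : (a * b) ^ p = a ^ p * b ^ p := by
    obtain ⟨j, hj⟩ := (Fact.out : p.Prime).dvd_choose_self two_ne_zero
      (lt_of_le_of_ne (Fact.out : p.Prime).two_le (Ne.symm hp))
    rw [Cfsg.Lib.PGroups.mul_pow_of_central hc, hj, pow_mul, hone, one_pow, mul_one]
  have h2 : Commute b (a ^ p) := by
    rw [← commutatorElement_eq_one_iff_commute,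
      Cfsg.Lib.PGroups.commutator_pow_right_of_commute (mem_center_iff.1 hc a).symm, hone]
  rw [pow_mul, pow_mul, pow_mul, h1, (h2.symm.pow_right p).mul_pow]

theorem mem_zpowers_symm [Finite X] {p : ℕ} [Fact p.Prime] {u e : X} (hu : u ^ p = 1) (he : e ^ p = 1) (he1 : e ≠ 1)
    (h : e ∈ zpowers u) : u ∈ zpowers e := by
  have hu1 : u ≠ 1 := fun h' => he1 (by simpa [h'] using h)
  have heq : zpowers e = zpowers u := eq_of_le_of_card_ge (zpowers_le.2 h) (by
    rw [Nat.card_zpowers, Nat.card_zpowers, orderOf_eq_prime hu hu1, orderOf_eq_prime he he1])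
  rw [heq]; exact mem_zpowers u

theorem card_sup_le [Finite X] (H K : Subgroup X) [H.Normal] :
    Nat.card ↥(H ⊔ K) ≤ Nat.card H * Nat.card K := by
  have h : ((H ⊔ K : Subgroup X) : Set X) = (H : Set X) * (K : Set X) := (Subgroup.normal_mul H K)
  calc Nat.card ↥(H ⊔ K) = Nat.card ((H ⊔ K : Subgroup X) : Set X) := rfl
    _ ≤ _ := by rw [h]; exact Set.natCard_mul_le

end Cfsg.Lib.PGroups.RankTwoIsolated
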