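import Cfsg.Agent.PGroups.MaxClassDegree
import Cfsg.Agent.PGroups.RankTwoIsolated.Basic

/-!
In a `3`-group of maximal class and even exponent an automorphism fixing the centre fixes a
Frattini coset inside the first two-step centraliser.
-/

set_option autoImplicit false
set_option linter.unusedSectionVars false
set_option linter.style.haveILetI false

namespace Cfsg.Lib.PGroups.RankTwoIsolated

open Subgroup
open Cfsg.Lib.PGroups MaxClassRank MaxClassThree MaxClassAgemo
open scoped commutatorElement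

universe u

theorem zmod_three_sq : ∀ w : ZMod 3, w ^ 2 = 0 ∨ w ^ 2 = 1 := by decide

variable {X : Type u} [Group X]

theorem map_mem_L (φ : X ≃* X) {i : ℕ} {a : X} (ha : a ∈ L X i) : φ a ∈ L X i := by
  have h := (inferInstance : (L X i).Characteristic).fixed φ
  rw [← h, mem_comap] at ha
  exact ha

theorem map_mem_stepCent (φ : X ≃* X) {j : ℕ} {g : X} (hg : g ∈ stepCent X j) : φ g ∈ stepCent X j := by
  refine mem_stepCent.2 fun a ha => ?_
  have h := map_mem_L φ (mem_stepCent.1 hg (φ.symm a) (map_mem_L φ.symm ha))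
  rwa [map_commutatorElement, φ.apply_symm_apply] at h

variable [Finite X] [Group.IsNilpotent X] [Fact (Nat.Prime 3)] {n : ℕ}

theorem exists_fixed_coset (B : Base 3 n X) (h4 : 4 ≤ n) (hev : Even n) :
    ∃ s1 : X, s1 ∉ L X 1 ∧ ∀ (φ : X ≃* X) (e : X), e ∈ center X → e ≠ 1 → φ e = e →
      φ s1 * s1⁻¹ ∈ L X 1 := by
  classical
  set S := stepCent X 1 with hS
  haveI hSn : S.Normal := MaxClassDegree.stepCent_normal 1
  have hSle : ∀ j, 1 ≤ j → j + 1 < n - 1 → stepCent X j = S := by
    intro j h1 h2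
    by_cases h5 : 5 ≤ n
    · exact MaxClassOutside.stepCent_eq_one B h5 j h1 h2
    · have hj : j = 1 := by omega
      subst hj; rfl
  have hSidx : S.index = 3 := MaxClassOutside.index_stepCent B le_rfl (by omega)
  have hLS : L X 1 ≤ S := derived_le_stepCent 1
  have hrel : (L X 1).relIndex S = 3 := by
    have h := Subgroup.relIndex_mul_index hLS
    rw [hSidx, B.L_index le_rfl (by omega)] at h
    omega
  obtain ⟨s, hs⟩ : ∃ s, s ∉ S := by
    by_contra h; push Not at h
    have hT : S = ⊤ := eq_top_iff.2 fun g _ => h g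
    rw [hT, index_top] at hSidx
    omega
  obtain ⟨s1, hs1S, hs1L⟩ : ∃ s1, s1 ∈ S ∧ s1 ∉ L X 1 := by
    by_contra h; push Not at h
    rw [Subgroup.relIndex_eq_one.2 h] at hrel
    omega
  -- coordinates
  have hcX : ∀ g : X, ∃ c : ℤ, (s ^ c)⁻¹ * g ∈ S := by
    intro g
    have hcard : Nat.card (X ⧸ S) = 3 := by rw [← Subgroup.index_eq_card, hSidx]
    have h := mem_zpowers_of_prime_card hcard (g := (QuotientGroup.mk s : X ⧸ S))
      (g' := (QuotientGroup.mk g : X ⧸ S)) (fun h => hs ((QuotientGroup.eq_one_iff s).1 h))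
    obtain ⟨c, hc⟩ := h
    refine ⟨c, ?_⟩
    rw [← QuotientGroup.eq_one_iff, QuotientGroup.mk_mul, QuotientGroup.mk_inv, QuotientGroup.mk_zpow]
    simp only at hc
    rw [hc, inv_mul_cancel]
  have hcS : ∀ g ∈ S, ∃ c : ℤ, (s1 ^ c)⁻¹ * g ∈ L X 1 := by
    intro g hg
    haveI : ((L X 1).subgroupOf S).Normal := Subgroup.normal_subgroupOf
    have hcard : Nat.card (S ⧸ (L X 1).subgroupOf S) = 3 := by
      rw [← Subgroup.index_eq_card]; exact hrel
    have h := mem_zpowers_of_prime_card hcard (g := (QuotientGroup.mk ⟨s1, hs1S⟩ : S ⧸ (L X 1).subgroupOf S))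
      (g' := (QuotientGroup.mk ⟨g, hg⟩ : S ⧸ (L X 1).subgroupOf S))
      (fun h => hs1L (mem_subgroupOf.1 ((QuotientGroup.eq_one_iff _).1 h)))
    obtain ⟨c, hc⟩ := h
    refine ⟨c, ?_⟩
    have h2 : ((QuotientGroup.mk (((⟨s1, hs1S⟩ : S) ^ c)⁻¹ * ⟨g, hg⟩)) : S ⧸ (L X 1).subgroupOf S) = 1 := by
      rw [QuotientGroup.mk_mul, QuotientGroup.mk_inv, QuotientGroup.mk_zpow]
      simp only at hc
      rw [hc, inv_mul_cancel]
    simpa [mem_subgroupOf] using (QuotientGroup.eq_one_iff _).1 h2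
  -- the levels
  have hgenS : closure ({s, s1} : Set X) ⊔ L X 1 = ⊤ := by
    refine eq_top_iff.2 fun g _ => ?_
    obtain ⟨c, hc⟩ := hcX g
    obtain ⟨d, hd⟩ := hcS _ hc
    have e : g = (s ^ c * s1 ^ d) * ((s1 ^ d)⁻¹ * ((s ^ c)⁻¹ * g)) := by group
    rw [e]
    exact Subgroup.mul_mem_sup (mul_mem (zpow_mem (subset_closure (by simp)) _)
      (zpow_mem (subset_closure (by simp)) _)) hd
  let a : ℕ → X := fun i => Nat.rec s1 (fun _ t => ⁅t, s⁆) i
  have hzero : a 0 = s1 := rfl
  have hsucc : ∀ i, a (i + 1) = ⁅a i, s⁆ := fun i => rfl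
  have ha1 : ⁅s1, s⁆ ∉ L X 2 := by
    intro h
    have hgen : closure ({s, s1, s1} : Set X) = ⊤ := by
      have := B.eq_top_of_sup hgenS
      simpa using this
    have hle : L X 1 ≤ L X 2 := by
      rw [show L X 1 = commutator X from top_lowerCentralSeries_one]
      refine commutator_le_of_three hgen _ ?_ ?_ ?_
      · rw [← commutatorElement_inv]; exact inv_mem h
      · rw [← commutatorElement_inv]; exact inv_mem h
      · rw [commutatorElement_self]; exact one_mem _
    exact absurd (le_antisymm (L_le (by omega)) hle) (B.L_lt (show 1 < n - 1 by omega)).ne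
  have hlev : ∀ i, 1 ≤ i → i ≤ n - 2 → a i ∈ L X i ∧ a i ∉ L X (i + 1) := by
    intro i h1
    induction i, h1 using Nat.le_induction with
    | base =>
      intro _
      show ⁅s1, s⁆ ∈ L X 1 ∧ ⁅s1, s⁆ ∉ L X 2
      exact ⟨comm_mem_succ (show s1 ∈ L X 0 by rw [show L X 0 = ⊤ from rfl]; exact mem_top _) s, ha1⟩
    | succ i h1 ih =>
      intro h2
      obtain ⟨hi, hi'⟩ := ih (by omega)
      rw [hsucc]
      refine ⟨comm_mem_succ hi s, fun h => hs ?_⟩
      rw [← hSle i h1 (by omega)]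
      exact B.mem_stepCent_of_exact h1 hi hi' h
  -- the invariant
  refine ⟨s1, hs1L, fun φ e hec he1 hfix => ?_⟩
  obtain ⟨ε, hε⟩ := hcX (φ s)
  obtain ⟨β, hβ⟩ := hcS (φ s1) (map_mem_stepCent φ hs1S)
  have hstep : ∀ (i : ℕ) (g l t : X) (γ : ℤ), i + 1 < n - 1 → g ∈ L X i → (i = 0 → g ∈ S) →
      l ∈ L X (i + 1) → t ∈ S →
      (⁅g, s⁆ ^ (γ * ε))⁻¹ * ⁅g ^ γ * l, s ^ ε * t⁆ ∈ L X (i + 2) := by
    intro i g l t γ hin hg hg0 hl ht
    set π := QuotientGroup.mk' (L X (i + 2))
    have hcen : ∀ z ∈ L X (i + 1), π z ∈ center (X ⧸ L X (i + 2)) := by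
      intro z hz
      refine mem_center_iff.2 fun y => ?_
      obtain ⟨y, rfl⟩ := QuotientGroup.mk'_surjective (L X (i + 2)) y
      show π y * π z = π z * π y
      symm
      rw [← commutatorElement_eq_one_iff_mul_comm, ← map_commutatorElement]
      exact (QuotientGroup.eq_one_iff _).2 (comm_mem_succ hz y)
    have hgt : Commute (π g) (π t) := by
      rw [← commutatorElement_eq_one_iff_commute, ← map_commutatorElement]
      refine (QuotientGroup.eq_one_iff _).2 ?_
      rcases Nat.eq_zero_or_pos i with rfl | hi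
      · -- inside `S` the quotient is generated by one element and a central subgroup
        obtain ⟨k, hk⟩ := hcS t ht
        obtain ⟨m, hm⟩ := hcS g (hg0 rfl)
        obtain ⟨r, hk, et⟩ : ∃ r ∈ L X 1, t = s1 ^ k * r := ⟨_, hk, (mul_inv_cancel_left _ _).symm⟩
        obtain ⟨r', hm, eg⟩ : ∃ r' ∈ L X 1, g = s1 ^ m * r' := ⟨_, hm, (mul_inv_cancel_left _ _).symm⟩
        have hc1 := mem_center_iff.1 (hcen r hk)
        have hc2 := mem_center_iff.1 (hcen r' hm)
        have hcm : Commute (π g) (π t) := by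
          rw [et, eg, map_mul, map_mul, map_zpow, map_zpow]
          exact ((Commute.zpow_zpow_self _ _ _).mul_right (hc1 _)).mul_left
            ((show Commute (π r') _ from (hc2 _).symm))
        have := commutatorElement_eq_one_iff_commute.2 hcm
        rw [← map_commutatorElement] at this
        exact (QuotientGroup.eq_one_iff _).1 this
      · exact mem_stepCent.1 ((hSle i hi hin).symm ▸ ht) g hg
    have hc : ⁅π g, π s⁆ ∈ center (X ⧸ L X (i + 2)) := by
      rw [← map_commutatorElement]; exact hcen _ (comm_mem_succ hg s)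
    have hlc := mem_center_iff.1 (hcen l hl)
    rw [← QuotientGroup.eq_one_iff]
    show π _ = 1
    rw [map_mul, map_inv, map_zpow, map_commutatorElement, map_commutatorElement, map_mul, map_mul,
      map_zpow, map_zpow, inv_mul_eq_one]
    have hcl : ∀ w, ⁅π g ^ γ * π l, w⁆ = ⁅π g ^ γ, w⁆ := fun w => by
      rw [Cfsg.Lib.PGroups.mul_left_commutator, commutatorElement_eq_one_iff_commute.2
        (show Commute (π l) w from (hlc w).symm), mul_one, mul_inv_cancel, one_mul]
    have hct : ⁅π g ^ γ, π s ^ ε * π t⁆ = ⁅π g ^ γ, π s ^ ε⁆ := by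
      rw [Cfsg.Lib.PGroups.mul_right_commutator, commutatorElement_eq_one_iff_commute.2
        (hgt.zpow_left γ), mul_one, mul_inv_cancel, mul_one]
    rw [hcl, hct]
    have hzr : ∀ (x y : X ⧸ L X (i + 2)) (k : ℤ), ⁅x, y⁆ ∈ center (X ⧸ L X (i + 2)) →
        ⁅x, y ^ k⁆ = ⁅x, y⁆ ^ k := by
      intro x y k h
      let f : X ⧸ L X (i + 2) := ⁅x, y⁆
      have hco : Commute f y := (mem_center_iff.1 h y).symm
      have h1 : x * y * x⁻¹ = f * y := by simp only [f, commutatorElement_def]; group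
      calc ⁅x, y ^ k⁆ = (x * y * x⁻¹) ^ k * (y ^ k)⁻¹ := by rw [commutatorElement_def, conj_zpow]
        _ = f ^ k := by rw [h1, hco.mul_zpow, mul_inv_cancel_right]
    have h1 := hzr (π g) (π s) ε hc
    have hc' : ⁅π s ^ ε, π g⁆ ∈ center (X ⧸ L X (i + 2)) := by
      rw [← commutatorElement_inv, h1]; exact inv_mem (zpow_mem hc ε)
    rw [← commutatorElement_inv (π s ^ ε) (π g ^ γ), hzr _ _ γ hc', ← commutatorElement_inv (π g) (π s ^ ε),
      h1, inv_zpow, inv_inv, ← zpow_mul, mul_comm ε γ]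
  have hinv : ∀ i, i ≤ n - 2 → ((a i) ^ (β * ε ^ i))⁻¹ * φ (a i) ∈ L X (i + 1) := by
    intro i
    induction i with
    | zero => intro _; simpa [hzero] using hβ
    | succ i ih =>
      intro hi
      have h := ih (by omega)
      have hgm : a i ∈ L X i := by
        rcases Nat.eq_zero_or_pos i with rfl | hp
        · rw [show L X 0 = ⊤ from rfl]; exact mem_top _
        · exact (hlev i hp (by omega)).1
      have h2 := hstep i (a i) _ _ (β * ε ^ i) (by omega) hgm (fun h0 => by subst h0; exact hs1S) h hε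
      rw [mul_inv_cancel_left, mul_inv_cancel_left, ← map_commutatorElement] at h2
      rw [hsucc, pow_succ, ← mul_assoc]
      exact h2
  -- the last level is the centre
  obtain ⟨ham, ham'⟩ := hlev (n - 2) (by omega) le_rfl
  set m := a (n - 2) with hm
  have hbot : L X (n - 2 + 1) = ⊥ := B.L_eq_bot (by omega)
  have hm1 : m ≠ 1 := fun h => ham' (by rw [h]; exact one_mem _)
  have hcardZ : Nat.card (center X) = 3 := by
    rw [B.center_eq, B.L_card (by omega) (by omega), show n - 1 - (n - 2) = 1 by omega, pow_one]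
  have hmC : m ∈ center X := by rw [B.center_eq]; exact ham
  have hmord : orderOf m = 3 := by
    have h := orderOf_dvd_natCard (⟨m, hmC⟩ : center X)
    rw [hcardZ, Subgroup.orderOf_mk] at h
    exact ((Nat.dvd_prime (Fact.out : Nat.Prime 3)).1 h).resolve_left fun h => hm1 (orderOf_eq_one_iff.1 h)
  have hme : m ∈ zpowers e := by
    have h := mem_zpowers_of_prime_card hcardZ (g := (⟨e, hec⟩ : center X)) (g' := ⟨m, hmC⟩)
      (fun h => he1 (congrArg Subtype.val h))
    obtain ⟨c, hc⟩ := h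
    exact ⟨c, by simpa using congrArg Subtype.val hc⟩
  have hmfix : φ m = m := by
    obtain ⟨c, hc⟩ := hme
    simp only at hc
    rw [← hc, map_zpow, hfix]
  have hlast := hinv (n - 2) le_rfl
  rw [hbot, mem_bot, ← hm, hmfix, inv_mul_eq_one] at hlast
  have hdvd : (3 : ℤ) ∣ β * ε ^ (n - 2) - 1 := by
    have h : m ^ (β * ε ^ (n - 2) - 1) = 1 := by rw [zpow_sub, hlast, zpow_one, mul_inv_cancel]
    have := orderOf_dvd_iff_zpow_eq_one.2 h
    rwa [hmord] at this
  have hβ1 : (3 : ℤ) ∣ β - 1 := by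
    obtain ⟨k, hk⟩ : Even (n - 2) := by obtain ⟨r, hr⟩ := hev; exact ⟨r - 1, by omega⟩
    have h0 : ((β * ε ^ (n - 2) - 1 : ℤ) : ZMod 3) = 0 := (ZMod.intCast_zmod_eq_zero_iff_dvd _ _).2 hdvd
    refine (ZMod.intCast_zmod_eq_zero_iff_dvd _ _).1 ?_
    push_cast at h0 ⊢
    rw [hk, ← two_mul, pow_mul] at h0
    rcases zmod_three_sq (ε : ZMod 3) with h | h <;> rw [h] at h0
    · rw [zero_pow (show k ≠ 0 by omega)] at h0
      simp at h0
    · simpa using h0
  obtain ⟨c, hc⟩ := hβ1
  have h3 : s1 ^ (3 : ℤ) ∈ L X 1 := by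
    have h := pow_card_eq_one' (G := S ⧸ (L X 1).subgroupOf S)
      (x := QuotientGroup.mk (⟨s1, hs1S⟩ : S))
    rw [← Subgroup.index_eq_card, show ((L X 1).subgroupOf S).index = 3 from hrel,
      ← QuotientGroup.mk_pow, QuotientGroup.eq_one_iff, mem_subgroupOf] at h
    simpa using h
  have h4' : φ s1 * s1⁻¹ = (s1 ^ β * ((s1 ^ β)⁻¹ * φ s1)) * s1⁻¹ := by group
  rw [h4', show β = 1 + 3 * c by omega, zpow_add, zpow_one, zpow_mul]
  haveI : (L X 1).Normal := inferInstance
  have hr : (s1 ^ (3 : ℤ)) ^ c * ((s1 ^ β)⁻¹ * φ s1) ∈ L X 1 := mul_mem (zpow_mem h3 c) hβ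
  rw [show β = 1 + 3 * c by omega, zpow_add, zpow_one, zpow_mul] at hr
  have := (inferInstance : (L X 1).Normal).conj_mem _ hr s1
  convert this using 1
  group

end Cfsg.Lib.PGroups.RankTwoIsolated
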