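import Cfsg.Agent.PGroups.RankTwoIsolated.Basic
import Cfsg.Agent.PGroups.MaxClass
import Cfsg.Agent.PGroups.MetacyclicChain
import Cfsg.Agent.Fusion.Yoshida.Wreath
import Cfsg.Agent.S3888

/-!
For odd `p` a `p`-group of rank at most two has no wreath product `C_p ≀ C_p` as a quotient.
-/

set_option autoImplicit false
set_option linter.unusedSectionVars false
set_option linter.style.haveILetI false

namespace Cfsg.Lib.PGroups.RankTwoIsolated

open Subgroup
open scoped commutatorElement

universe u

variable {p : ℕ} [Fact p.Prime]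

theorem pow_choose_le {A : Type u} [Group A] {V : Type*} [CommGroup V] [Finite V] (φ : A →* V)
    (hφ : Function.Surjective φ) {x y z : A} (hgen : closure ({x, y, z} : Set A) = ⊤) :
    Nat.card V ≤ orderOf (φ x) * orderOf (φ y) * orderOf (φ z) := by
  have htop : zpowers (φ x) ⊔ zpowers (φ y) ⊔ zpowers (φ z) = ⊤ := by
    rw [← top_le_iff, ← Subgroup.map_top_of_surjective φ hφ, ← hgen, MonoidHom.map_closure, closure_le]
    rintro _ ⟨a, (rfl | rfl | rfl), rfl⟩
    exacts [mem_sup_left (mem_sup_left (mem_zpowers _)), mem_sup_left (mem_sup_right (mem_zpowers _)),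
      mem_sup_right (mem_zpowers _)]
  have hle := (card_sup_le (zpowers (φ x) ⊔ zpowers (φ y)) (zpowers (φ z))).trans
    (Nat.mul_le_mul (card_sup_le (zpowers (φ x)) (zpowers (φ y))) le_rfl)
  rwa [htop, Subgroup.card_top, Nat.card_zpowers, Nat.card_zpowers, Nat.card_zpowers] at hle

local notation "D" => Multiplicative (ZMod p)

/-- nontrivial normal subgroups inside the base of the wreath product share an element -/
theorem base_meet (N M : Subgroup (RegularWreathProduct D D)) [N.Normal] [M.Normal]
    (hN : ∀ w ∈ N, w.right = 1) (hM : ∀ w ∈ M, w.right = 1) (hN1 : N ≠ ⊥) (hM1 : M ≠ ⊥) :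
    ∃ w, w ∈ N ∧ w ∈ M ∧ w ≠ 1 := by
  classical
  let eqv : RegularWreathProduct D D ≃ (D → D) × D :=
    { toFun := fun w => (w.left, w.right), invFun := fun w => ⟨w.1, w.2⟩,
      left_inv := fun _ => rfl, right_inv := fun _ => rfl }
  haveI : Finite (RegularWreathProduct D D) := Finite.of_equiv _ eqv.symm
  have hR : IsPGroup p (RegularWreathProduct D D) := by
    refine IsPGroup.of_card (n := p + 1) ?_
    rw [Nat.card_congr eqv, Nat.card_prod, Nat.card_fun,
      show Nat.card D = p from Nat.card_zmod p, pow_succ]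
  have hconst : ∀ K : Subgroup (RegularWreathProduct D D), K.Normal → (∀ w ∈ K, w.right = 1) → K ≠ ⊥ →
      ∃ w ∈ K, ∃ d : D, d ≠ 1 ∧ w = ⟨fun _ => d, 1⟩ := by
    intro K hK hright h1
    obtain ⟨w, hwK, hwZ, hw⟩ := Cfsg.Lib.PGroups.exists_mem_center_of_normal_ne_bot hR h1
    refine ⟨w, hwK, w.left 1, ?_, ?_⟩
    · intro hd
      have hw1 : w = 1 := by
        refine RegularWreathProduct.ext ?_ (hright w hwK)
        funext i
        have h := congrArg (fun v => v.left i)
          (mem_center_iff.1 hwZ (RegularWreathProduct.inl i : RegularWreathProduct D D))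
        simp only [RegularWreathProduct.mul_left, Pi.mul_apply] at h
        simp [RegularWreathProduct.inl, hright w hwK, hd] at h ⊢
        exact h.symm
      rw [hw1, orderOf_one] at hw
      exact (Fact.out : p.Prime).ne_one hw.symm
    · refine RegularWreathProduct.ext ?_ (hright w hwK)
      funext i
      have h := congrArg (fun v => v.left i)
        (mem_center_iff.1 hwZ (RegularWreathProduct.inl i : RegularWreathProduct D D))
      simp only [RegularWreathProduct.mul_left, Pi.mul_apply] at h
      simp [RegularWreathProduct.inl, hright w hwK] at h ⊢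
      exact h.symm
  obtain ⟨w, hwN, d, hd, rfl⟩ := hconst N inferInstance hN hN1
  obtain ⟨w', hwM, d', hd', rfl⟩ := hconst M inferInstance hM hM1
  obtain ⟨k, hk⟩ : d ∈ zpowers d' := mem_zpowers_of_prime_card (show Nat.card D = p from Nat.card_zmod p) hd'
  refine ⟨_, hwN, ?_, fun h => hd (congrFun (congrArg RegularWreathProduct.left h) 1)⟩
  simp only at hk
  have hpow : ∀ j : ℕ, ((⟨fun _ => d', 1⟩ : RegularWreathProduct D D) ^ j) = ⟨fun _ => d' ^ j, 1⟩ := by
    intro j
    induction j with
    | zero => rw [pow_zero]; exact RegularWreathProduct.ext (funext fun _ => (pow_zero d').symm) rfl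
    | succ j ih =>
      rw [pow_succ, ih]
      exact RegularWreathProduct.ext (funext fun _ => (pow_succ d' j).symm) (one_mul 1)
  obtain ⟨j, hj⟩ : ∃ j : ℕ, d = d' ^ j := by
    have h : d ∈ zpowers d' := ⟨k, hk⟩
    rw [← mem_powers_iff_mem_zpowers] at h
    obtain ⟨j, hj⟩ := h
    exact ⟨j, hj.symm⟩
  rw [show (⟨fun _ => d, 1⟩ : RegularWreathProduct D D) = (⟨fun _ => d', 1⟩ : RegularWreathProduct D D) ^ j by
    rw [hpow, hj]]
  exact pow_mem hwM j

/-- a `p`-group of rank two has no quotient `C_p ≀ C_p` -/
theorem no_wreath {X : Type u} [Group X] [Finite X] (hp : p ≠ 2) (hX : IsPGroup p X)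
    (hrk : Cfsg.PRankLE p 2 X) (W : Sylow p (Equiv.Perm (Fin (p ^ 2))))
    (f : X →* ↥(W : Subgroup (Equiv.Perm (Fin (p ^ 2))))) (hf : Function.Surjective f) : False := by
  classical
  have hpr : p.Prime := Fact.out
  obtain ⟨iso⟩ := Cfsg.Lib.Fusion.Yoshida.exists_iso_sylow W
  set g : X →* RegularWreathProduct D D := iso.symm.toMonoidHom.comp f with hg
  have hgs : Function.Surjective g := iso.symm.surjective.comp hf
  let A : Subgroup X := (RegularWreathProduct.rightHom.comp g).ker
  have hright : ∀ a : A, (g a).right = 1 := fun a => a.2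
  let φ : A →* (D → D) := MonoidHom.mk' (fun a => (g a).left) fun a b => by
    rw [Subgroup.coe_mul, map_mul, RegularWreathProduct.mul_left, hright a]
    funext i
    simp
  have hφs : Function.Surjective φ := fun v => by
    obtain ⟨a, ha⟩ := hgs ⟨v, 1⟩
    exact ⟨⟨a, show (g a).right = 1 by rw [ha]⟩, show (g a).left = v by rw [ha]⟩
  have hV : Nat.card (D → D) = p ^ p := by
    rw [Nat.card_fun, show Nat.card D = p from Nat.card_zmod p]
  have hVp : ∀ v : D → D, v ^ p = 1 := fun v => by
    funext i
    rw [Pi.pow_apply, Pi.one_apply]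
    apply Multiplicative.toAdd.injective
    simp
  have hord : ∀ v : D → D, orderOf v ≤ p := fun v =>
    Nat.le_of_dvd hpr.pos (orderOf_dvd_of_pow_eq_one (hVp v))
  have hp3 : 3 ≤ p := Nat.lt_of_le_of_ne hpr.two_le (Ne.symm hp)
  have hbig : p ^ 2 < Nat.card (D → D) := by
    rw [hV]; exact Nat.pow_lt_pow_right hpr.one_lt (by omega)
  have hArk : Cfsg.PRankLE p 2 A := by
    intro E hE hexp
    have e := Subgroup.card_map_of_injective (K := E) A.subtype_injective
    rw [← e]
    haveI := hE
    exact hrk _ inferInstance (by rintro _ ⟨a, ha, rfl⟩; rw [← map_pow, hexp a ha, map_one])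
  have hAp : IsPGroup p A := hX.to_subgroup A
  obtain ⟨n, hn⟩ := IsPGroup.iff_card.1 hAp
  have hn3 : 3 ≤ n := by
    have h := Nat.card_le_card_of_surjective φ hφs
    rw [hn, hV] at h
    exact hp3.trans ((Nat.pow_le_pow_iff_right hpr.one_lt).1 h)
  rcases Cfsg.Agent.S3888.result hp n hn hArk with h | ⟨h3, x, y, z, hgen, hxp, hyp, hzp, hxz, hyz, hr⟩ |
    ⟨h4, s, x, y, z, hs, hgen, hxp, hyp, hzp, hyz, hr, hr'⟩ | ⟨rfl, h2, hl⟩
  · obtain ⟨a, b, hab⟩ := Cfsg.Lib.MetaChain.exists_two_generators h (⊤ : Subgroup A)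
    have hgen : closure ({(a : A), (b : A), 1} : Set A) = ⊤ := by
      rw [← top_le_iff]
      intro w _
      obtain ⟨i, j, hw⟩ := hab ⟨w, mem_top w⟩
      have := congrArg Subtype.val hw
      simp only [Subgroup.coe_mul, SubgroupClass.coe_zpow] at this
      rw [this]
      exact mul_mem (zpow_mem (subset_closure (by simp)) i) (zpow_mem (subset_closure (by simp)) j)
    have hle := pow_choose_le φ hφs hgen
    rw [map_one, orderOf_one, mul_one] at hle
    have := hle.trans (Nat.mul_le_mul (hord _) (hord _))
    rw [← pow_two] at this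
    omega
  · -- the central product family
    have hle := pow_choose_le φ hφs hgen
    have hle' := hle.trans (Nat.mul_le_mul (Nat.mul_le_mul (hord _) (hord _)) (hord _))
    rw [hV, ← pow_two, ← pow_succ] at hle'
    have hp3' : p = 3 := le_antisymm ((Nat.pow_le_pow_iff_right hpr.one_lt).1 hle') hp3
    subst hp3'
    set u := z ^ 3 ^ (n - 3) with hu
    have hzc : z ∈ center A := mem_center_of_three hgen hxz.symm hyz.symm (Commute.refl z)
    have huc : u ∈ center A := pow_mem hzc _
    have hup : u ^ 3 = 1 := by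
      rw [hu, ← pow_mul, ← pow_succ, show n - 3 + 1 = n - 2 by omega, hzp]
    rcases Nat.lt_or_ge 3 n with h4 | h3'
    · have htop : zpowers z ⊔ zpowers x ⊔ zpowers y = (⊤ : Subgroup A) := by
        rw [← top_le_iff, ← hgen, closure_le]
        rintro a (rfl | rfl | rfl)
        exacts [mem_sup_left (mem_sup_right (mem_zpowers _)), mem_sup_right (mem_zpowers _),
          mem_sup_left (mem_sup_left (mem_zpowers _))]
      haveI hzn : (zpowers z).Normal := ⟨fun a ha g => by
        rw [mem_center_iff.1 (zpowers_le.2 hzc ha) g, mul_inv_cancel_right]; exact ha⟩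
      have hxy' : ⁅x⁻¹, y⁆ = u := by
        rw [commutatorElement_def, inv_inv, hr, mem_center_iff.1 huc y, mul_inv_cancel_right]
      have hcomm : commutator A ≤ zpowers u := by
        haveI : (zpowers u).Normal := ⟨fun a ha g => by
          rw [mem_center_iff.1 (zpowers_le.2 huc ha) g, mul_inv_cancel_right]; exact ha⟩
        refine commutator_le_of_three hgen _ ?_ ?_ ?_
        · rw [show ⁅x, y⁆ = x * ⁅x⁻¹, y⁆⁻¹ * x⁻¹ by simp only [commutatorElement_def]; group, hxy']
          exact (inferInstance : (zpowers u).Normal).conj_mem _ (inv_mem (mem_zpowers u)) x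
        · rw [commutatorElement_eq_one_iff_mul_comm.2 hxz]; exact one_mem _
        · rw [commutatorElement_eq_one_iff_mul_comm.2 hyz]; exact one_mem _
      haveI : (zpowers z ⊔ zpowers x).Normal := ⟨fun a ha g => by
        have h := hcomm (commutator_mem_commutator (mem_top g) (mem_top a))
        rw [show g * a * g⁻¹ = ⁅g, a⁆ * a by simp only [commutatorElement_def]; group]
        exact mul_mem (mem_sup_left ((zpowers_le.2 (pow_mem (mem_zpowers z) _) : zpowers u ≤ zpowers z) h)) ha⟩
      have hform : ∀ a : A, ∃ i j k : ℤ, a = z ^ k * x ^ i * y ^ j := fun a => by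
        obtain ⟨b, hb, c, ⟨j, rfl⟩, rfl⟩ :=
          mem_sup_of_normal_left.1 (htop ▸ mem_top a : a ∈ zpowers z ⊔ zpowers x ⊔ zpowers y)
        obtain ⟨_, ⟨k, rfl⟩, _, ⟨i, rfl⟩, rfl⟩ := mem_sup_of_normal_left.1 hb
        exact ⟨i, j, k, rfl⟩
      have hu1 : u ≠ 1 := by
        intro h1
        have hle := (card_sup_le (zpowers z ⊔ zpowers x) (zpowers y)).trans
          (Nat.mul_le_mul (card_sup_le (zpowers z) (zpowers x)) le_rfl)
        rw [htop, Subgroup.card_top, hn, Nat.card_zpowers, Nat.card_zpowers, Nat.card_zpowers] at hle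
        have h2 := hle.trans (Nat.mul_le_mul (Nat.mul_le_mul
          (Nat.le_of_dvd (pow_pos (by norm_num) _) (orderOf_dvd_of_pow_eq_one (h1 : z ^ 3 ^ (n - 3) = 1)))
          (Nat.le_of_dvd (by norm_num) (orderOf_dvd_of_pow_eq_one hxp)))
          (Nat.le_of_dvd (by norm_num) (orderOf_dvd_of_pow_eq_one hyp)))
        rw [← pow_succ, ← pow_succ] at h2
        have := (Nat.pow_le_pow_iff_right (show 1 < 3 by norm_num)).1 h2
        omega
      have hxy : ¬ Commute x y := fun h => by
        rw [← commutatorElement_eq_one_iff_commute.2 h.inv_left, hxy'] at hu1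
        exact hu1 rfl
      have hmul : ∀ a b : A, (a * b) ^ 3 = a ^ 3 * b ^ 3 := fun a b => by
        have h := hcomm (commutator_mem_commutator (mem_top b) (mem_top a))
        refine mul_pow_of_dvd (by norm_num) (zpowers_le.2 huc h) ?_ dvd_rfl
        obtain ⟨i, hi⟩ := h
        simp only at hi
        rw [← hi, ← zpow_natCast, zpow_comm, zpow_natCast, hup, one_zpow]
      let Z : Subgroup X := A ⊓ centralizer (A : Set X)
      let Ω : Subgroup X :=
        { carrier := {a | a ∈ A ∧ a ^ 3 = 1}
          one_mem' := ⟨one_mem _, one_pow 3⟩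
          mul_mem' := fun {a b} ha hb => ⟨mul_mem ha.1 hb.1, by
            have := congrArg Subtype.val (hmul ⟨a, ha.1⟩ ⟨b, hb.1⟩)
            simp only [SubgroupClass.coe_pow, Subgroup.coe_mul] at this
            rw [this, ha.2, hb.2, one_mul]⟩
          inv_mem' := fun {a} ha => ⟨inv_mem ha.1, by rw [inv_pow, ha.2, inv_one]⟩ }
      haveI hAn : A.Normal := MonoidHom.normal_ker _
      haveI : Ω.Normal := ⟨fun a ha g => ⟨hAn.conj_mem a ha.1 g,
        by rw [conj_pow, ha.2, mul_one, mul_inv_cancel]⟩⟩
      haveI : Z.Normal := Subgroup.normal_inf_normal _ _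
      haveI : (Z.map g).Normal := Subgroup.Normal.map inferInstance g hgs
      haveI : (Ω.map g).Normal := Subgroup.Normal.map inferInstance g hgs
      have hZimg : ∀ a : A, (a : X) ∈ Z → φ a ∈ zpowers (φ z) := by
        intro a ha
        obtain ⟨i, j, k, rfl⟩ := hform a
        have hcen : ∀ b : A, Commute (z ^ k * x ^ i * y ^ j) b := fun b =>
          Subtype.ext (mem_centralizer_iff.1 ha.2 b b.2).symm
        have hzk : ∀ b : A, Commute (z ^ k) b := fun b => (mem_center_iff.1 (zpow_mem hzc k) b).symm
        have hxyij : ∀ b : A, Commute (x ^ i * y ^ j) b := fun b => by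
          have := ((hzk b).inv_left).mul_left (hcen b)
          simpa [mul_assoc] using this
        have hj : y ^ j = 1 := by
          by_contra hj
          have h : Commute (y ^ j) x := by
            have := ((Commute.refl x).zpow_left i).inv_left.mul_left (hxyij x)
            simpa [mul_assoc] using this
          obtain ⟨m, hm⟩ := mem_zpowers_symm hyp (by
            rw [← zpow_natCast, ← zpow_mul, mul_comm, zpow_mul, zpow_natCast, hyp, one_zpow]) hj
            (zpow_mem (mem_zpowers y) j)
          simp only at hm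
          exact hxy (hm ▸ h.zpow_left m).symm
        have hi : x ^ i = 1 := by
          by_contra hi
          have h : Commute (x ^ i) y := by simpa [hj] using hxyij y
          obtain ⟨m, hm⟩ := mem_zpowers_symm hxp (by
            rw [← zpow_natCast, ← zpow_mul, mul_comm, zpow_mul, zpow_natCast, hxp, one_zpow]) hi
            (zpow_mem (mem_zpowers x) i)
          simp only at hm
          exact hxy (hm ▸ h.zpow_left m)
        rw [hi, hj, mul_one, mul_one, map_zpow]
        exact zpow_mem (mem_zpowers _) k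
      have hΩimg : ∀ a : A, (a : X) ∈ Ω → φ a ∈ zpowers (φ x) ⊔ zpowers (φ y) := by
        intro a ha
        obtain ⟨i, j, k, rfl⟩ := hform a
        have h3a : (z ^ k * x ^ i * y ^ j) ^ 3 = 1 := Subtype.ext (by
          rw [SubgroupClass.coe_pow]; exact ha.2)
        rw [hmul, hmul, ← zpow_natCast (x ^ i), ← zpow_natCast (y ^ j), zpow_comm x, zpow_comm y,
          zpow_natCast, zpow_natCast, hxp, hyp, one_zpow, one_zpow, mul_one, mul_one,
          ← zpow_natCast, ← zpow_mul] at h3a
        have hdvd : ((orderOf z : ℕ) : ℤ) ∣ k * ((3 : ℕ) : ℤ) := orderOf_dvd_iff_zpow_eq_one.2 h3a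
        have hoz : orderOf z = 3 ^ (n - 2) := by
          rw [show n - 2 = n - 3 + 1 by omega]
          exact orderOf_eq_prime_pow hu1 (by rwa [show n - 3 + 1 = n - 2 by omega])
        rw [hoz, show n - 2 = n - 4 + 1 + 1 by omega, pow_succ] at hdvd
        push_cast at hdvd
        have h3k : (3 : ℤ) ∣ k :=
          dvd_trans (dvd_pow_self 3 (by omega)) (Int.dvd_of_mul_dvd_mul_right (by norm_num) hdvd)
        obtain ⟨k', rfl⟩ := h3k
        have hz1 : φ (z ^ ((3 : ℤ) * k')) = 1 := by
          rw [map_zpow, zpow_mul, show ((3 : ℤ)) = ((3 : ℕ) : ℤ) by norm_num, zpow_natCast, hVp, one_zpow]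
        rw [map_mul, map_mul, hz1, one_mul, map_zpow, map_zpow]
        exact Subgroup.mul_mem_sup (zpow_mem (mem_zpowers _) i) (zpow_mem (mem_zpowers _) j)
      have hnt : φ x ≠ 1 ∧ φ z ≠ 1 := by
        refine ⟨fun h => ?_, fun h => ?_⟩ <;> rw [h, orderOf_one] at hle
        · rw [one_mul] at hle
          have := hle.trans (Nat.mul_le_mul (hord _) (hord _))
          rw [← pow_two] at this; omega
        · rw [mul_one] at hle
          have := hle.trans (Nat.mul_le_mul (hord _) (hord _))
          rw [← pow_two] at this; omega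
      have hmemright : ∀ K : Subgroup X, K ≤ A → ∀ w ∈ K.map g, w.right = 1 := by
        rintro K hK _ ⟨a, ha, rfl⟩; exact hK ha
      have hne : ∀ (K : Subgroup X) (a : A), (a : X) ∈ K → φ a ≠ 1 → K.map g ≠ ⊥ := by
        intro K a ha h hb
        have hga := mem_map_of_mem g ha
        rw [hb, mem_bot] at hga
        exact h (show (g a).left = 1 by rw [hga]; rfl)
      obtain ⟨w, ⟨a, ha, rfl⟩, ⟨b, hb, hbw⟩, hw1⟩ := base_meet (Z.map g) (Ω.map g)
        (hmemright Z inf_le_left) (hmemright Ω fun a ha => ha.1)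
        (hne Z z ⟨z.2, mem_centralizer_iff.2 fun b hb =>
          congrArg Subtype.val (mem_center_iff.1 hzc ⟨b, hb⟩)⟩ hnt.2)
        (hne Ω x ⟨x.2, by
          have := congrArg Subtype.val hxp
          simpa using this⟩ hnt.1)
      have hm1 := hZimg ⟨a, ha.1⟩ ha
      have hm2 := hΩimg ⟨b, hb.1⟩ hb
      have heq : φ ⟨b, hb.1⟩ = φ ⟨a, ha.1⟩ := show (g b).left = (g a).left by rw [hbw]
      rw [heq] at hm2
      have hva : φ ⟨a, ha.1⟩ ≠ 1 := fun h => hw1 (RegularWreathProduct.ext h (hright ⟨a, ha.1⟩))
      have hzmem : φ z ∈ zpowers (φ x) ⊔ zpowers (φ y) :=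
        (zpowers_le.2 hm2) (mem_zpowers_symm (hVp (φ z)) (hVp _) hva hm1)
      have htopV : zpowers (φ x) ⊔ zpowers (φ y) = (⊤ : Subgroup (Multiplicative (ZMod 3) → Multiplicative (ZMod 3))) := by
        rw [← top_le_iff, ← Subgroup.map_top_of_surjective φ hφs, ← hgen, MonoidHom.map_closure, closure_le]
        rintro _ ⟨a, (rfl | rfl | rfl), rfl⟩
        exacts [mem_sup_left (mem_zpowers _), mem_sup_right (mem_zpowers _), hzmem]
      have hc := card_sup_le (zpowers (φ x)) (zpowers (φ y))
      rw [htopV, Subgroup.card_top, Nat.card_zpowers, Nat.card_zpowers] at hc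
      have := hc.trans (Nat.mul_le_mul (hord _) (hord _))
      rw [← pow_two] at this
      omega
    · obtain rfl : n = 3 := by omega
      have hbij : Function.Bijective φ := by
        refine (Nat.bijective_iff_surjective_and_card φ).2 ⟨hφs, ?_⟩
        rw [hn, hV]
      haveI : IsMulCommutative A := ⟨⟨fun a b => hbij.1 (by rw [map_mul, map_mul, mul_comm])⟩⟩
      have h := hrk A inferInstance (fun a ha => by
        have := hbij.1 (show φ (⟨a, ha⟩ ^ 3) = φ 1 by rw [map_pow, hVp, map_one])
        simpa using congrArg Subtype.val this)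
      rw [hn] at h
      norm_num at h
  · -- the family with abelian maximal subgroup: one image is trivial
    have hy : φ y = 1 := by
      have h := congrArg φ hr'
      rw [map_mul, map_mul, map_mul, map_inv, mul_comm (φ x)⁻¹, inv_mul_cancel_right] at h
      exact (mul_right_cancel (b := φ z) (by rw [one_mul]; exact h)).symm
    have hle := pow_choose_le φ hφs hgen
    rw [hy, orderOf_one, mul_one] at hle
    have := hle.trans (Nat.mul_le_mul (hord _) (hord _))
    rw [← pow_two] at this
    omega
  · haveI := hAp.isNilpotent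
    have hcl : Group.nilpotencyClass A = n - 1 := by
      refine le_antisymm (Cfsg.Lib.MaxClass.class_le n A hn h2) ?_
      by_contra hlt
      exact hl (Subgroup.lowerCentralSeries_eq_bot_iff_nilpotencyClass_le.2 (by omega))
    have hidx := Cfsg.Lib.MaxClass.commutator_index n A hn h2 hcl
    have hle : commutator A ≤ φ.ker := Abelianization.commutator_subset_ker φ
    have h := Subgroup.index_dvd_of_le hle
    rw [Subgroup.index_ker, MonoidHom.range_eq_top.2 hφs, Subgroup.card_top, hidx] at h
    exact absurd (Nat.le_of_dvd (by positivity) h) (not_le.2 hbig)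

end Cfsg.Lib.PGroups.RankTwoIsolated
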