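import Cfsg.Agent.PGroups.RankTwoIsolated.MaxClassParity
import Cfsg.Agent.PGroups.MaxClass
import Cfsg.Agent.Fusion.ExceptionShape
import Cfsg.Agent.S3888
import Cfsg.Prelude.Def_Transfer

/-!
A non-metacyclic `p`-group of rank two on which automorphisms without fixed points modulo the
derived group fix a central element of order `p`.
-/

set_option autoImplicit false
set_option linter.unusedSectionVars false
set_option linter.style.haveILetI false

namespace Cfsg.Lib.PGroups.RankTwoIsolated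

open Subgroup
open scoped commutatorElement

universe u

variable {X : Type u} [Group X] [Finite X] {p : ℕ} [Fact p.Prime]

/-- the power map kills nothing that is fixed: the endgame of the two three-generator families -/
theorem pow_eq_one_of_lift (Φ : Set (X ≃* X)) (e : X) (hfix : ∀ φ ∈ Φ, φ e = e)
    (hlift : ∀ V : Subgroup X, (∀ φ ∈ Φ, ∀ a ∈ V, φ a ∈ V) → commutator X ≤ V →
      ∀ w : X, (∀ φ ∈ Φ, φ w * w⁻¹ ∈ V) → w ∈ V)
    (C : Subgroup X) (hC : ∀ φ ∈ Φ, ∀ a ∈ C, φ a ∈ C) (q : ℕ)
    (hmul : ∀ a ∈ C, ∀ b ∈ C, (a * b) ^ q = a ^ q * b ^ q)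
    (hcC : commutator X ≤ C) (hcq : ∀ c ∈ commutator X, c ^ q = 1) {z : X} (hz : z ∈ C)
    (hze : z ^ q ∈ zpowers e) : z ^ q = 1 := by
  let V : Subgroup X :=
    { carrier := {a | a ∈ C ∧ a ^ q = 1}
      one_mem' := ⟨one_mem _, one_pow q⟩
      mul_mem' := fun {a b} ha hb => ⟨mul_mem ha.1 hb.1, by rw [hmul a ha.1 b hb.1, ha.2, hb.2, one_mul]⟩
      inv_mem' := fun {a} ha => ⟨inv_mem ha.1, by rw [inv_pow, ha.2, inv_one]⟩ }
  refine (hlift V (fun φ hφ a ha => ⟨hC φ hφ a ha.1, by rw [← map_pow, ha.2, map_one]⟩)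
    (fun c hc => ⟨hcC hc, hcq c hc⟩) z fun φ hφ => ⟨mul_mem (hC φ hφ z hz) (inv_mem hz), ?_⟩).2
  rw [hmul _ (hC φ hφ z hz) _ (inv_mem hz), ← map_pow, inv_pow]
  obtain ⟨i, hi⟩ := hze
  simp only at hi
  rw [← hi, map_zpow, hfix φ hφ, mul_inv_cancel]

theorem commutator_le_center_of_comm (h : ∀ a b : X, a * b = b * a) : commutator X = ⊥ := by
  rw [_root_.commutator_def, commutator_eq_bot_iff_le_centralizer]
  exact fun a _ => mem_centralizer_iff.2 fun b _ => h b a

variable (hp : p ≠ 2) (hrk : Cfsg.PRankLE p 2 X) (Φ : Set (X ≃* X)) {e : X} (hec : e ∈ center X)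
  (hep : e ^ p = 1) (he1 : e ≠ 1) (hfix : ∀ φ ∈ Φ, φ e = e)
  (hlift : ∀ V : Subgroup X, (∀ φ ∈ Φ, ∀ a ∈ V, φ a ∈ V) → commutator X ≤ V →
    ∀ w : X, (∀ φ ∈ Φ, φ w * w⁻¹ ∈ V) → w ∈ V)

include he1 hfix hlift in
theorem not_comm : ¬ ∀ a b : X, a * b = b * a := fun h => he1 (mem_bot.1 (hlift ⊥
  (fun φ _ a ha => by rw [mem_bot.1 ha, map_one]; exact one_mem _)
  (commutator_le_center_of_comm h).le e fun φ hφ => by rw [hfix φ hφ, mul_inv_cancel]; exact one_mem _))

include hp hrk hec hep he1 hfix hlift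

/-- the central product family -/
theorem family_two {n : ℕ} (hn : 3 ≤ n) {x y z : X} (hgen : closure ({x, y, z} : Set X) = ⊤)
    (hxp : x ^ p = 1) (hyp : y ^ p = 1) (hzp : z ^ p ^ (n - 2) = 1) (hxz : x * z = z * x)
    (hyz : y * z = z * y) (hrel : x⁻¹ * y * x = y * z ^ p ^ (n - 3)) :
    n = 3 ∧ ∀ a : X, a ^ p = 1 := by
  set u := z ^ p ^ (n - 3) with hu
  have hzc : z ∈ center X := mem_center_of_three hgen hxz.symm hyz.symm (Commute.refl z)
  have huc : u ∈ center X := pow_mem hzc _
  have hup : u ^ p = 1 := by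
    rw [hu, ← pow_mul, ← pow_succ, show n - 3 + 1 = n - 2 by omega, hzp]
  haveI : (zpowers u).Normal := ⟨fun a ha g => by
    have hac : a ∈ center X := zpowers_le.2 huc ha
    rw [mem_center_iff.1 hac g, mul_inv_cancel_right]; exact ha⟩
  have hxy' : ⁅x⁻¹, y⁆ ∈ zpowers u := by
    have e' : ⁅x⁻¹, y⁆ = u := by
      rw [commutatorElement_def, inv_inv, hrel, mem_center_iff.1 huc y, mul_inv_cancel_right]
    rw [e']; exact mem_zpowers u
  have hcomm : commutator X ≤ zpowers u := by
    refine commutator_le_of_three hgen _ ?_ ?_ ?_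
    · have e' : ⁅x, y⁆ = x * ⁅x⁻¹, y⁆⁻¹ * x⁻¹ := by simp only [commutatorElement_def]; group
      rw [e']
      exact (inferInstance : (zpowers u).Normal).conj_mem _ (inv_mem hxy') x
    · rw [commutatorElement_eq_one_iff_mul_comm.2 hxz]; exact one_mem _
    · rw [commutatorElement_eq_one_iff_mul_comm.2 hyz]; exact one_mem _
  have hu1 : u ≠ 1 := by
    intro h
    refine not_comm Φ he1 hfix hlift fun a b => ?_
    have := hcomm (commutator_mem_commutator (mem_top a) (mem_top b))
    rw [h, zpowers_one_eq_bot, mem_bot, commutatorElement_eq_one_iff_mul_comm] at this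
    exact this
  have hmul : ∀ a b : X, ∀ q, p ∣ q → (a * b) ^ q = a ^ q * b ^ q := fun a b q hq => by
    have h := hcomm (commutator_mem_commutator (mem_top b) (mem_top a))
    refine mul_pow_of_dvd hp (zpowers_le.2 huc h) ?_ hq
    obtain ⟨i, hi⟩ := h
    simp only at hi
    rw [← hi, ← zpow_natCast, zpow_comm, zpow_natCast, hup, one_zpow]
  rcases Nat.lt_or_ge 3 n with h4 | h3
  · exfalso
    have hy : y ∉ closure ({u, e} : Set X) := by
      intro h
      have hyc : y ∈ center X := (closure_le _).2 (by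
        rintro a (rfl | rfl) <;> assumption) h
      have h2 : x⁻¹ * y * x = y := by
        rw [mem_center_iff.1 hyc x⁻¹, inv_mul_cancel_right]
      exact hu1 (mul_left_cancel (a := y) (by rw [mul_one, ← hrel, h2]))
    have heu : e ∈ zpowers u := mem_zpowers_of_rank hrk (mem_center_iff.1 huc e).symm
      (mem_center_iff.1 huc y).symm (mem_center_iff.1 hec y).symm hup hep hyp hu1 hy
    have hue := mem_zpowers_symm hup hep he1 heu
    have hq : p ∣ p ^ (n - 3) := dvd_pow_self p (by omega)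
    refine hu1 (pow_eq_one_of_lift Φ e hfix hlift ⊤ (fun _ _ _ _ => mem_top _) _
      (fun a _ b _ => hmul a b _ hq) le_top (fun c hc => ?_) (mem_top z) hue)
    obtain ⟨i, hi⟩ := hcomm hc
    obtain ⟨k, hk⟩ := hq
    simp only at hi
    rw [← hi, hk, pow_mul, ← zpow_natCast (u ^ i), ← zpow_mul, mul_comm, zpow_mul, zpow_natCast, hup,
      one_zpow, one_pow]
  · obtain rfl : n = 3 := by omega
    refine ⟨rfl, fun a => ?_⟩
    let K : Subgroup X :=
      { carrier := {a | a ^ p = 1}
        one_mem' := one_pow p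
        mul_mem' := fun {a b} (ha : a ^ p = 1) (hb : b ^ p = 1) => by
          show (a * b) ^ p = 1
          rw [hmul a b p dvd_rfl, ha, hb, one_mul]
        inv_mem' := fun {a} (ha : a ^ p = 1) => by
          show a⁻¹ ^ p = 1
          rw [inv_pow, ha, inv_one] }
    have hle : closure ({x, y, z} : Set X) ≤ K := by
      rw [closure_le]
      rintro a (rfl | rfl | rfl)
      exacts [hxp, hyp, (by simpa using hzp : a ^ p = 1)]
    exact hle (hgen ▸ mem_top a)

/-- the family with an abelian maximal subgroup -/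
theorem family_three {n : ℕ} (hG : Nat.card X = p ^ n) (hn : 4 ≤ n) {s : ℕ} {x y z : X}
    (hs : s = 1 ∨ ¬ IsSquare (s : ZMod p)) (hgen : closure ({x, y, z} : Set X) = ⊤)
    (hxp : x ^ p = 1) (hyp : y ^ p = 1) (hzp : z ^ p ^ (n - 2) = 1) (hyz : y * z = z * y)
    (hrel : x⁻¹ * y * x = y * z ^ (s * p ^ (n - 3))) (hrel' : x⁻¹ * z * x = y * z) : False := by
  set q := p ^ (n - 3) with hqdef
  have hq : p ∣ q := dvd_pow_self p (by omega)
  set u := z ^ q with hu
  have hrel : x⁻¹ * y * x = y * u ^ s := by rw [hrel, mul_comm s, pow_mul]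
  have hup : u ^ p = 1 := by rw [hu, ← pow_mul, ← pow_succ, show n - 3 + 1 = n - 2 by omega, hzp]
  have hyq : y ^ q = 1 := by obtain ⟨k, hk⟩ := hq; rw [hk, pow_mul, hyp, one_pow]
  have hzy : Commute z y := hyz.symm
  have hux : x⁻¹ * u * x = u := by
    have h : (x⁻¹ * z * x) ^ q = x⁻¹ * z ^ q * x := by simpa using conj_pow (a := x⁻¹) (b := z) (i := q)
    rw [hu, ← h, hrel', hzy.symm.mul_pow, hyq, one_mul]
  have huc : u ∈ center X := by
    refine mem_center_of_three hgen ?_ (hzy.pow_left q) ((Commute.refl z).pow_left q)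
    show u * x = x * u
    conv_rhs => rw [← hux]
    group
  have hsp : ¬ p ∣ s := by
    intro h
    rcases hs with rfl | hs
    · exact (Fact.out : p.Prime).not_dvd_one h
    · exact hs (by rw [(ZMod.natCast_eq_zero_iff _ _).2 h]; exact ⟨0, by rw [mul_zero]⟩)
  -- the subgroup `A`
  set A := closure ({y, z} : Set X) with hA
  have hAx : ∀ a ∈ A, x⁻¹ * a * x ∈ A := by
    intro a ha
    have hle : A ≤ A.comap (MulAut.conj x⁻¹).toMonoidHom := by
      rw [hA, closure_le]
      rintro b (rfl | rfl) <;> simp only [SetLike.mem_coe, mem_comap, MulEquiv.coe_toMonoidHom,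
        MulAut.conj_apply, inv_inv]
      · rw [hrel]
        exact mul_mem (subset_closure (by simp)) (pow_mem (pow_mem (subset_closure (by simp)) _) _)
      · rw [hrel']
        exact mul_mem (subset_closure (by simp)) (subset_closure (by simp))
    simpa using hle ha
  haveI hAn : A.Normal := by
    rw [← normalizer_eq_top_iff, ← top_le_iff, ← hgen, closure_le]
    have hA' : A ≤ normalizer (A : Set X) := le_normalizer
    rintro a (rfl | rfl | rfl)
    · have : a⁻¹ ∈ normalizer (A : Set X) :=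
        mem_normalizer_fintype (S := (A : Set X)) (fun b hb => by simpa using hAx b hb)
      simpa using inv_mem this
    · exact hA' (subset_closure (by simp))
    · exact hA' (subset_closure (by simp))
  have hAc : ∀ a ∈ A, ∀ b ∈ A, Commute a b := by
    haveI : IsMulCommutative A := Subgroup.isMulCommutative_closure (by
      intro a ha b hb
      rcases ha with rfl | rfl <;> rcases hb with rfl | rfl
      exacts [rfl, hyz, hyz.symm, rfl])
    exact fun a ha b hb => congrArg Subtype.val (mul_comm' (⟨a, ha⟩ : A) ⟨b, hb⟩)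
  have hyc : ⁅x⁻¹, z⁆ = y := by rw [commutatorElement_def, inv_inv, hrel', mul_inv_cancel_right]
  have hyder : y ∈ commutator X := hyc ▸ commutator_mem_commutator (mem_top _) (mem_top _)
  have hxyc : ⁅x⁻¹, y⁆ = u ^ s := by
    rw [commutatorElement_def, inv_inv, hrel, mem_center_iff.1 (pow_mem huc s) y, mul_inv_cancel_right]
  have hder : ∀ N : Subgroup X, ∀ [N.Normal], y ∈ N → u ^ s ∈ N → commutator X ≤ N := by
    intro N hN h1 h2
    refine commutator_le_of_three hgen N ?_ ?_ ?_
    · have e' : ⁅x, y⁆ = x * ⁅x⁻¹, y⁆⁻¹ * x⁻¹ := by simp only [commutatorElement_def]; group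
      rw [e', hxyc]
      exact hN.conj_mem _ (inv_mem h2) x
    · have e' : ⁅x, z⁆ = x * ⁅x⁻¹, z⁆⁻¹ * x⁻¹ := by simp only [commutatorElement_def]; group
      rw [e', hyc]
      exact hN.conj_mem _ (inv_mem h1) x
    · rw [commutatorElement_eq_one_iff_mul_comm.2 hyz]; exact one_mem _
  -- the order forces `u ≠ 1`
  have hu1 : u ≠ 1 := by
    intro h1
    have hyC : y ∈ center X := by
      refine mem_center_of_three hgen ?_ (Commute.refl y) hyz
      show y * x = x * y
      rw [h1, one_pow, mul_one] at hrel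
      conv_rhs => rw [← hrel]
      group
    haveI : (zpowers y).Normal := ⟨fun a ha g => by
      have hac : a ∈ center X := zpowers_le.2 hyC ha
      rw [mem_center_iff.1 hac g, mul_inv_cancel_right]; exact ha⟩
    have hcy := hder (zpowers y) (mem_zpowers y) (by rw [h1, one_pow]; exact one_mem _)
    haveI : (zpowers y ⊔ zpowers z).Normal := ⟨fun a ha g => by
      have h := hcy (commutator_mem_commutator (mem_top g) (mem_top a))
      rw [show g * a * g⁻¹ = ⁅g, a⁆ * a by simp only [commutatorElement_def]; group]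
      exact mul_mem (mem_sup_left h) ha⟩
    have htop : zpowers y ⊔ zpowers z ⊔ zpowers x = (⊤ : Subgroup X) := by
      rw [← top_le_iff, ← hgen, closure_le]
      rintro a (rfl | rfl | rfl)
      exacts [mem_sup_right (mem_zpowers _), mem_sup_left (mem_sup_left (mem_zpowers _)),
        mem_sup_left (mem_sup_right (mem_zpowers _))]
    have hle := (card_sup_le (zpowers y ⊔ zpowers z) (zpowers x)).trans
      (Nat.mul_le_mul (card_sup_le (zpowers y) (zpowers z)) le_rfl)
    rw [htop, Subgroup.card_top, hG, Nat.card_zpowers, Nat.card_zpowers, Nat.card_zpowers] at hle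
    have hpos := (Fact.out : p.Prime).pos
    have o1 : orderOf y ≤ p := Nat.le_of_dvd hpos (orderOf_dvd_of_pow_eq_one hyp)
    have o2 : orderOf x ≤ p := Nat.le_of_dvd hpos (orderOf_dvd_of_pow_eq_one hxp)
    have o3 : orderOf z ≤ q := Nat.le_of_dvd (pow_pos hpos _) (orderOf_dvd_of_pow_eq_one h1)
    have h2 := hle.trans (Nat.mul_le_mul (Nat.mul_le_mul o1 o3) o2)
    rw [hqdef, ← pow_succ', ← pow_succ] at h2
    have := (Nat.pow_le_pow_iff_right (Fact.out : p.Prime).one_lt).1 h2
    omega
  have hyx : ¬ Commute x y := by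
    intro h
    have h2 : x⁻¹ * y * x = y := by rw [mul_assoc, ← h.eq, inv_mul_cancel_left]
    rw [h2] at hrel
    have h3 : u ^ s = 1 := (mul_left_cancel (a := y) (by rw [mul_one]; exact hrel)).symm
    exact hsp ((orderOf_eq_prime hup hu1) ▸ orderOf_dvd_of_pow_eq_one h3)
  have hy : y ∉ closure ({u, e} : Set X) := by
    intro h
    have hyc : y ∈ center X := (closure_le _).2 (by rintro a (rfl | rfl) <;> assumption) h
    exact hyx (mem_center_iff.1 hyc x)
  have heu : e ∈ zpowers u := mem_zpowers_of_rank hrk (mem_center_iff.1 huc e).symm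
    (mem_center_iff.1 huc y).symm (mem_center_iff.1 hec y).symm hup hep hyp hu1 hy
  have hue := mem_zpowers_symm hup hep he1 heu
  -- `A` is the centraliser of the derived group
  have hcA : commutator X ≤ A :=
    hder A (subset_closure (by simp)) (pow_mem (pow_mem (subset_closure (by simp)) _) _)
  set C := centralizer ((commutator X : Subgroup X) : Set X) with hC
  have hAC : A ≤ C := fun a ha => mem_centralizer_iff.2 fun c hc => (hAc a ha c (hcA hc)).eq.symm
  have hCA : C ≤ A := by
    intro g hg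
    have htop : A ⊔ zpowers x = ⊤ := by
      rw [← top_le_iff, ← hgen, closure_le]
      rintro a (rfl | rfl | rfl)
      exacts [mem_sup_right (mem_zpowers _), mem_sup_left (subset_closure (by simp)),
        mem_sup_left (subset_closure (by simp))]
    obtain ⟨a, ha, b, hb, rfl⟩ := mem_sup_of_normal_left.1 (htop ▸ mem_top g : g ∈ A ⊔ zpowers x)
    have hbC : b ∈ C := by simpa using mul_mem (inv_mem (hAC ha)) hg
    have hby : Commute b y := (mem_centralizer_iff.1 hbC y hyder).symm
    by_cases hb1 : b = 1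
    · rw [hb1, mul_one]; exact ha
    · exfalso
      have hbp : b ^ p = 1 := by
        obtain ⟨i, rfl⟩ := hb
        show (x ^ i) ^ p = 1
        rw [← zpow_natCast, ← zpow_mul, mul_comm, zpow_mul, zpow_natCast, hxp, one_zpow]
      obtain ⟨i, hi⟩ := mem_zpowers_symm hxp hbp hb1 hb
      simp only at hi
      exact hyx (hi ▸ hby.zpow_left i)
  have hCchar : ∀ φ ∈ Φ, ∀ a ∈ C, φ a ∈ C := by
    intro φ _ a ha
    refine mem_centralizer_iff.2 fun c hc => ?_
    have hc' : φ.symm c ∈ commutator X := by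
      have h := (inferInstance : (commutator X).Characteristic).fixed φ.symm
      have hc2 := h.ge hc
      rwa [mem_comap] at hc2
    have h := congrArg φ (mem_centralizer_iff.1 ha _ hc')
    rwa [map_mul, map_mul, φ.apply_symm_apply] at h
  refine hu1 (pow_eq_one_of_lift Φ e hfix hlift C hCchar q
    (fun a ha b hb => (hAc a (hCA ha) b (hCA hb)).mul_pow q) (hcA.trans hAC) ?_
    (hAC (subset_closure (by simp))) hue)
  let V : Subgroup X :=
    { carrier := {a | a ∈ A ∧ a ^ q = 1}
      one_mem' := ⟨one_mem _, one_pow q⟩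
      mul_mem' := fun {a b} ha hb => ⟨mul_mem ha.1 hb.1,
        by rw [(hAc a ha.1 b hb.1).mul_pow, ha.2, hb.2, one_mul]⟩
      inv_mem' := fun {a} ha => ⟨inv_mem ha.1, by rw [inv_pow, ha.2, inv_one]⟩ }
  haveI : V.Normal := ⟨fun a ha g => ⟨hAn.conj_mem a ha.1 g, by rw [conj_pow, ha.2, mul_one, mul_inv_cancel]⟩⟩
  exact fun c hc => (hder V ⟨subset_closure (by simp), hyq⟩
    ⟨pow_mem (pow_mem (subset_closure (by simp)) _) _, by
      obtain ⟨k, hk⟩ := hq
      rw [← pow_mul, hk, mul_left_comm, pow_mul, hup, one_pow]⟩ hc).2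

/-- the three possibilities left by the fixed central element -/
theorem shape (hX : IsPGroup p X) (hmeta : ¬ Cfsg.IsMetacyclic X) :
    (Cfsg.IsExtraspecial p X ∧ Nat.card X = p ^ 3 ∧ ∀ a : X, a ^ p = 1) ∨
    (p = 3 ∧ ∃ k : ℕ, 2 ≤ k ∧ Nat.card X = 3 ^ (2 * k + 1) ∧
      ∃ _ : Group.IsNilpotent X, Group.nilpotencyClass X = 2 * k) := by
  classical
  obtain ⟨n, hn⟩ := IsPGroup.iff_card.1 hX
  have hnc := not_comm Φ he1 hfix hlift
  obtain ⟨a, b, hab⟩ : ∃ a b : X, a * b ≠ b * a := by
    by_contra h; push Not at h; exact hnc h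
  rcases Cfsg.Agent.S3888.result hp n hn hrk with h | ⟨h3, x, y, z, hgen, hxp, hyp, hzp, hxz, hyz, hr⟩ |
    ⟨h4, s, x, y, z, hs, hgen, hxp, hyp, hzp, hyz, hr, hr'⟩ | ⟨hp3, h2, hl⟩
  · exact absurd h hmeta
  · obtain ⟨rfl, hexp⟩ := family_two hp hrk Φ hec hep he1 hfix hlift h3 hgen hxp hyp hzp hxz hyz hr
    exact Or.inl ⟨Cfsg.Lib.Fusion.isExtraspecial_of_cube hn hab, hn, hexp⟩
  · exact (family_three hp hrk Φ hec hep he1 hfix hlift hn h4 hs hgen hxp hyp hzp hyz hr hr').elim
  subst hp3
  haveI := hX.isNilpotent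
  have hcl : Group.nilpotencyClass X = n - 1 := by
    refine le_antisymm (Cfsg.Lib.MaxClass.class_le n X hn h2) ?_
    by_contra hlt
    exact hl (Subgroup.lowerCentralSeries_eq_bot_iff_nilpotencyClass_le.2 (by omega))
  have hn2 : n ≠ 2 := by
    rintro rfl
    exact hab ((IsPGroup.isMulCommutative_of_card_eq_prime_sq hn).is_comm.comm a b)
  rcases eq_or_lt_of_le (show 3 ≤ n by omega) with rfl | h4
  · refine Or.inl ⟨Cfsg.Lib.Fusion.isExtraspecial_of_cube hn hab, hn, fun g => ?_⟩
    by_contra hg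
    refine hmeta ?_
    obtain ⟨j, -, hj⟩ := (Nat.dvd_prime_pow (Fact.out : Nat.Prime 3)).1 (hn ▸ orderOf_dvd_natCard g)
    have hj2 : 2 ≤ j := by
      by_contra h
      exact hg (orderOf_dvd_iff_pow_eq_one.1 (hj ▸ (pow_dvd_pow 3 (show j ≤ 1 by omega))))
    have hj3 : j ≠ 3 := by
      rintro rfl
      haveI : IsCyclic X := isCyclic_of_orderOf_eq_card g (hj.trans hn.symm)
      exact hab (mul_comm' a b)
    have hjle : j ≤ 3 := (Nat.pow_le_pow_iff_right (by norm_num : 1 < 3)).1
      (hj ▸ Nat.le_of_dvd (by positivity) (hn ▸ orderOf_dvd_natCard g))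
    obtain rfl : j = 2 := by omega
    have hidx : (zpowers g).index = 3 := by
      have := Subgroup.card_mul_index (zpowers g)
      rw [Nat.card_zpowers, hj, hn] at this
      omega
    haveI hN : (zpowers g).Normal :=
      Subgroup.normal_of_index_eq_minFac_card (by rw [hidx, hn]; norm_num)
    exact ⟨zpowers g, hN, inferInstance, isCyclic_of_prime_card (p := 3)
      (by rw [← Subgroup.index_eq_card, hidx])⟩
  · refine Or.inr ⟨rfl, ?_⟩
    rcases Nat.even_or_odd n with hev | ⟨k, hk⟩
    · exfalso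
      obtain ⟨s1, hs1, hφ⟩ := exists_fixed_coset
        (B := (⟨le_rfl, by omega, hn, hcl⟩ : MaxClassAgemo.Base 3 n X)) (by omega) hev
      refine hs1 (hlift _ (fun φ _ a ha => map_mem_L φ ha)
        (by rw [Cfsg.Lib.PGroups.MaxClassRank.L, top_lowerCentralSeries_one])
        s1 fun φ hφ' => hφ φ e hec he1 (hfix φ hφ'))
    · exact ⟨k, by omega, by rw [hn, hk], inferInstance, by rw [hcl]; omega⟩

end Cfsg.Lib.PGroups.RankTwoIsolated
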